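import Groth.Agent.KFlatLib.CxFlat
import Mathlib

/-! # The largest flat stratum of a module over an Artinian ring -/

set_option autoImplicit false

universe u

open TensorProduct

namespace ArtFlatLib

variable {A : Type u} [CommRing A]

theorem le_of_le_sup_smul {M : Type u} [AddCommGroup M] [Module A M] {J : Ideal A} (hJ : IsNilpotent J)
    {S T : Submodule A M} (h : T ≤ S ⊔ J • T) : T ≤ S := by
  obtain ⟨n, hn⟩ := hJ
  have : ∀ k, T ≤ S ⊔ J ^ k • T := fun k => by
    induction k with
    | zero => simp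
    | succ k ih =>
      refine ih.trans (sup_le le_sup_left ?_)
      refine (Submodule.smul_mono le_rfl h).trans ?_
      rw [Submodule.smul_sup, ← Submodule.mul_smul, ← pow_succ]
      exact sup_le_sup_right Submodule.smul_le_right _
  simpa [hn] using this n

/-- Purity of a submodule with flat quotient. -/
theorem mem_smul_ker {X Y : Type u} [AddCommGroup X] [Module A X] [AddCommGroup Y] [Module A Y] [Module.Flat A Y]
    (p : X →ₗ[A] Y) (hp : Function.Surjective p) (J : Ideal A) (z : LinearMap.ker p)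
    (hz : (z : X) ∈ J • (⊤ : Submodule A X)) : z ∈ J • (⊤ : Submodule A (LinearMap.ker p)) := by
  have hinj : Function.Injective ((LinearMap.ker p).subtype.rTensor (A ⧸ J)) :=
    KFlatLib.rTensor_injective_of_flat_quotient _ p Subtype.val_injective
      (LinearMap.exact_iff.2 (Submodule.range_subtype _).symm) hp (A ⧸ J)
  have h1 : (z : X) ⊗ₜ[A] (1 : A ⧸ J) = 0 := by
    rw [← TensorProduct.tensorQuotEquivQuotSMul_symm_mk, (Submodule.Quotient.mk_eq_zero _).2 hz, map_zero]
  have h2 : z ⊗ₜ[A] (1 : A ⧸ J) = 0 := hinj (by simpa using h1)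
  rw [← TensorProduct.tensorQuotEquivQuotSMul_symm_mk, map_eq_zero_iff _ (LinearEquiv.injective _)] at h2
  exact (Submodule.Quotient.mk_eq_zero _).1 h2

/-- For a module over an Artinian ring there is a largest base ring quotient making it flat. -/
theorem exists_ideal [IsArtinianRing A] (N : Type u) [AddCommGroup N] [Module A N] :
    ∃ I : Ideal A, ∀ (A' : Type u) [CommRing A'] [Algebra A A'],
      Module.Flat A' (A' ⊗[A] N) ↔ I.map (algebraMap A A') = ⊥ := by
  classical
  let J := Ideal.jacobson (⊥ : Ideal A)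
  have hJn : IsNilpotent J := IsArtinianRing.isNilpotent_jacobson_bot
  haveI : IsSemisimpleRing (A ⧸ J) := by
    have h : J = Ring.jacobson A := Ideal.jacobson_bot
    rw [h]; infer_instance
  let F := N →₀ A
  let π : F →ₗ[A] N := Finsupp.linearCombination A id
  have hπ : Function.Surjective π := fun n => ⟨Finsupp.single n 1, (Finsupp.linearCombination_single A 1 n).trans (one_smul A n)⟩
  let JF : Submodule A F := J • ⊤
  let JN : Submodule A N := J • ⊤
  have hJFN : JF ≤ JN.comap π := by
    rw [← Submodule.map_le_iff_le_comap, Submodule.map_smul'']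
    exact Submodule.smul_mono le_rfl le_top
  let pb : (F ⧸ JF) →ₗ[A ⧸ J] (N ⧸ JN) :=
    { toFun := Submodule.mapQ JF JN π hJFN
      map_add' := map_add _
      map_smul' := fun c x => by
        obtain ⟨c, rfl⟩ := Ideal.Quotient.mk_surjective c
        exact LinearMap.map_smul _ c x }
  have hpb : Function.Surjective pb := fun y => by
    obtain ⟨n, rfl⟩ := JN.mkQ_surjective y
    obtain ⟨x, rfl⟩ := hπ n
    exact ⟨JF.mkQ x, rfl⟩
  haveI : Module.Projective (A ⧸ J) (N ⧸ JN) := Module.projective_of_isSemisimpleRing _ _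
  obtain ⟨s, hs⟩ := Module.projective_lifting_property pb LinearMap.id hpb
  let Φ : Module.End A F →+* Module.End A (F ⧸ JF) :=
    { toFun := fun x => Submodule.mapQ JF JF x (by
        rw [← Submodule.map_le_iff_le_comap, Submodule.map_smul'']
        exact Submodule.smul_mono le_rfl le_top)
      map_one' := LinearMap.ext fun y => by obtain ⟨y, rfl⟩ := JF.mkQ_surjective y; rfl
      map_zero' := LinearMap.ext fun y => by obtain ⟨y, rfl⟩ := JF.mkQ_surjective y; rfl
      map_mul' := fun a b => LinearMap.ext fun y => by obtain ⟨y, rfl⟩ := JF.mkQ_surjective y; rfl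
      map_add' := fun a b => LinearMap.ext fun y => by obtain ⟨y, rfl⟩ := JF.mkQ_surjective y; rfl }
  have hker : ∀ x ∈ RingHom.ker Φ, IsNilpotent x := by
    intro x hx
    obtain ⟨n, hn⟩ := hJn
    refine ⟨n, ?_⟩
    have h1 : ∀ m, LinearMap.range (x ^ m) ≤ J ^ m • (⊤ : Submodule A F) := fun m => by
      induction m with
      | zero => simp
      | succ m ih =>
        rintro _ ⟨y, rfl⟩
        have hy : (x ^ m) y ∈ J ^ m • (⊤ : Submodule A F) := ih ⟨y, rfl⟩
        have hxy : LinearMap.range x ≤ J • (⊤ : Submodule A F) := by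
          rintro _ ⟨z, rfl⟩
          exact (Submodule.Quotient.mk_eq_zero JF).1 (LinearMap.congr_fun (RingHom.mem_ker.1 hx) (JF.mkQ z))
        have h2 := Submodule.mem_map_of_mem (f := x) hy
        rw [Submodule.map_smul'', Submodule.map_top] at h2
        rw [pow_succ' x, Module.End.mul_apply, pow_succ J, Submodule.mul_smul]
        exact Submodule.smul_mono le_rfl hxy h2
    refine LinearMap.ext fun y => ?_
    have := h1 n ⟨y, rfl⟩
    rw [hn] at this
    simpa using this
  let sA : (N ⧸ JN) →ₗ[A] (F ⧸ JF) :=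
    { toFun := s, map_add' := map_add _, map_smul' := fun c x => LinearMap.map_smul s (Ideal.Quotient.mk J c) x }
  let eb : Module.End A (F ⧸ JF) := sA ∘ₗ Submodule.mapQ JF JN π hJFN
  have heb : IsIdempotentElem eb := LinearMap.ext fun y => congrArg sA (LinearMap.congr_fun hs _)
  have hrange : eb ∈ RingHom.range (R := Module.End A F) Φ := by
    obtain ⟨l, hl⟩ := Module.projective_lifting_property JF.mkQ (eb ∘ₗ JF.mkQ) JF.mkQ_surjective
    refine RingHom.mem_range.2 ⟨l, LinearMap.ext fun y => ?_⟩
    obtain ⟨y, rfl⟩ := JF.mkQ_surjective y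
    exact LinearMap.congr_fun hl y
  obtain ⟨e, he, hΦe⟩ := exists_isIdempotentElem_eq_of_ker_isNilpotent (R := Module.End A F) Φ hker eb hrange heb
  have hee : ∀ x, e (e x) = e x := fun x => LinearMap.congr_fun he x
  have heJ : ∀ x, JF.mkQ (e x) = eb (JF.mkQ x) := fun x => LinearMap.congr_fun hΦe (JF.mkQ x)
  let π' : F →ₗ[A] N := π ∘ₗ e
  have hπ' : Function.Surjective π' := by
    rw [← LinearMap.range_eq_top, eq_top_iff]
    refine le_of_le_sup_smul hJn fun n _ => ?_
    obtain ⟨x, rfl⟩ := hπ n
    have h1 : JN.mkQ (π (e x)) = JN.mkQ (π x) :=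
      (congrArg (Submodule.mapQ JF JN π hJFN) (heJ x)).trans (LinearMap.congr_fun hs (JN.mkQ (π x)))
    refine Submodule.mem_sup.2 ⟨π' x, ⟨x, rfl⟩, π x - π' x, ?_, by abel⟩
    exact (Submodule.Quotient.eq JN).1 h1.symm
  let K : Submodule A F := LinearMap.ker π' ⊓ LinearMap.range e
  have hK : K ≤ JF := by
    rintro x ⟨hx, y, rfl⟩
    refine (Submodule.Quotient.mk_eq_zero JF).1 ?_
    change JF.mkQ (e y) = 0
    rw [← hee y, heJ]
    change sA (Submodule.mapQ JF JN π hJFN (JF.mkQ (e y))) = 0
    rw [show Submodule.mapQ JF JN π hJFN (JF.mkQ (e y)) = JN.mkQ (π (e (e y))) by rw [hee]; rfl,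
      show π (e (e y)) = 0 from hx, map_zero, map_zero]
  refine ⟨Ideal.span {a | ∃ x ∈ K, ∃ j, x j = a}, fun A' _ _ => ?_⟩
  let e' := e.baseChange A'
  let π'' := π'.baseChange A'
  have hπ'' : Function.Surjective π'' := LinearMap.lTensor_surjective A' hπ'
  let K' : Submodule A' (A' ⊗[A] F) := Submodule.span A' ((fun x => (1 : A') ⊗ₜ[A] x) '' (K : Set F))
  have hee' : ∀ z, e' (e' z) = e' z := fun z => by
    induction z with
    | zero => simp
    | add a b ha hb => simp only [map_add, ha, hb]
    | tmul a x => simp [e', hee]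
  have hπe : ∀ z, π'' (e' z) = π'' z := fun z => by
    induction z with
    | zero => simp
    | add a b ha hb => simp only [map_add, ha, hb]
    | tmul a x => simp [e', π'', π', hee]
  have hK'ker : ∀ z ∈ K', π'' z = 0 ∧ e' z = z := by
    intro z hz
    induction hz using Submodule.span_induction with
    | mem w hw =>
      obtain ⟨x, ⟨hx, y, rfl⟩, rfl⟩ := hw
      exact ⟨by simp [π'', show π' (e y) = 0 from hx], by simp [e', hee]⟩
    | zero => simp
    | add u v _ _ hu hv => exact ⟨by rw [map_add, hu.1, hv.1, add_zero], by rw [map_add, hu.2, hv.2]⟩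
    | smul c u _ hu => exact ⟨by rw [map_smul, hu.1, smul_zero], by rw [map_smul, hu.2]⟩
  have hker' : ∀ z, π'' z = 0 → e' z ∈ K' := by
    intro z hz
    have hex : Function.Exact ((LinearMap.ker π').subtype.lTensor A') (π'.lTensor A') :=
      lTensor_exact A' (LinearMap.exact_iff.2 (Submodule.range_subtype _).symm) hπ'
    obtain ⟨w, rfl⟩ := (hex z).1 hz
    clear hz
    induction w with
    | zero => simp
    | add a b ha hb => rw [map_add, map_add]; exact add_mem ha hb
    | tmul a x =>
      have h1 : e' ((LinearMap.ker π').subtype.lTensor A' (a ⊗ₜ[A] x)) = a • ((1 : A') ⊗ₜ[A] e x.1) := by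
        simp [e', smul_tmul']
      rw [h1]
      refine K'.smul_mem a (Submodule.subset_span ⟨e x.1, ⟨?_, ⟨_, rfl⟩⟩, rfl⟩)
      show π (e (e x.1)) = 0
      rw [hee]; exact x.2
  have hcoef : K' = ⊥ ↔ (Ideal.span {a | ∃ x ∈ K, ∃ j, x j = a}).map (algebraMap A A') = ⊥ := by
    simp only [K', Ideal.map_span, Ideal.span_eq_bot, Submodule.span_eq_bot]
    constructor
    · rintro h _ ⟨_, ⟨x, hx, j, rfl⟩, rfl⟩
      have h1 := congrArg (fun w => TensorProduct.finsuppScalarRight A A A' N w j) (h _ ⟨x, hx, rfl⟩)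
      have h2 := (TensorProduct.finsuppScalarRight_apply_tmul_apply (S := A) (1 : A') x j).symm.trans h1
      simpa [Algebra.smul_def] using h2
    · rintro h _ ⟨x, hx, rfl⟩
      refine (TensorProduct.finsuppScalarRight A A A' N).injective (Finsupp.ext fun j => ?_)
      refine (TensorProduct.finsuppScalarRight_apply_tmul_apply (S := A) (1 : A') x j).trans ?_
      simp [Algebra.smul_def, h _ ⟨x j, ⟨x, hx, j, rfl⟩, rfl⟩]
  rw [← hcoef]
  constructor
  · intro hflat
    let L := LinearMap.ker π''
    let J' := J.map (algebraMap A A')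
    have hpure : ∀ z : L, (z : A' ⊗[A] F) ∈ J' • (⊤ : Submodule A' (A' ⊗[A] F)) → z ∈ J' • (⊤ : Submodule A' L) :=
      fun z hz => mem_smul_ker π'' hπ'' J' z hz
    have hJ'n : IsNilpotent J' := by
      obtain ⟨n, hn⟩ := hJn
      exact ⟨n, by rw [← Ideal.map_pow, hn, Ideal.zero_eq_bot, Ideal.map_bot]; rfl⟩
    refine le_bot_iff.1 (le_of_le_sup_smul (S := ⊥) hJ'n fun k hk => Submodule.mem_sup_right ?_)
    obtain ⟨hk1, hk2⟩ := hK'ker k hk
    have hmem : k ∈ J' • (⊤ : Submodule A' (A' ⊗[A] F)) := by
      clear hk1 hk2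
      induction hk using Submodule.span_induction with
      | mem w hw =>
        obtain ⟨x, hx, rfl⟩ := hw
        refine Submodule.smul_induction_on (hK hx) (fun a ha y _ => ?_) (fun u v hu hv => ?_)
        · show (1 : A') ⊗ₜ[A] (a • y) ∈ _
          rw [TensorProduct.tmul_smul, ← algebraMap_smul A' a ((1 : A') ⊗ₜ[A] y)]
          exact Submodule.smul_mem_smul (Ideal.mem_map_of_mem _ ha) Submodule.mem_top
        · show (1 : A') ⊗ₜ[A] (u + v) ∈ _
          rw [TensorProduct.tmul_add]; exact add_mem hu hv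
      | zero => simp
      | add u v _ _ hu hv => exact add_mem hu hv
      | smul c u _ hu => exact Submodule.smul_mem _ c hu
    have h4 := Submodule.mem_map_of_mem (f := e' ∘ₗ L.subtype) (hpure ⟨k, hk1⟩ hmem)
    rw [Submodule.map_smul''] at h4
    simp only [LinearMap.comp_apply, Submodule.coe_subtype, hk2] at h4
    refine Submodule.smul_mono le_rfl ?_ h4
    rintro _ ⟨w, -, rfl⟩
    exact hker' _ w.2
  · intro hK'
    let σ : A' ⊗[A] N →ₗ[A'] A' ⊗[A] F :=
      ((LinearMap.ker π'').liftQ e' fun z hz => by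
        have h := hker' z hz
        rwa [hK', Submodule.mem_bot] at h).comp (π''.quotKerEquivOfSurjective hπ'').symm.toLinearMap
    refine Module.Flat.of_retract σ π'' (LinearMap.ext fun y => ?_)
    obtain ⟨z, rfl⟩ := hπ'' y
    have : (π''.quotKerEquivOfSurjective hπ'').symm (π'' z) = Submodule.Quotient.mk z := by
      rw [LinearEquiv.symm_apply_eq]; rfl
    simp only [σ, LinearMap.comp_apply, LinearEquiv.coe_coe, this, Submodule.liftQ_apply, LinearMap.id_apply]
    exact hπe z

end ArtFlatLib
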